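import Groth.Agent.L10.CechHDU.Stair

/-! The filtration of hypercohomology and its graded pieces. -/

universe u

open CategoryTheory CategoryTheory.Limits Opposite TopologicalSpace

set_option autoImplicit false
set_option backward.defeqAttrib.useBackward true
set_option backward.isDefEq.respectTransparency false
set_option backward.isDefEq.respectTransparency.types false
namespace Groth.L10.CechHDU

open Groth.L10.Cech

variable {X : TopCat.{u}} {ι : Type u} (U : ι → Opens X)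
  {K I : CochainComplex (CohTop.Ab X) ℤ}

theorem cover_top (hcov : iSup U = ⊤) :
    Sieve.ofArrows (fun i => (𝟭 (Opens X)).obj (U i)) (fun i => (homOfLE le_top : U i ⟶ (⊤ : Opens X))) ∈
      Opens.grothendieckTopology X (⊤ : Opens X) := fun x hx => by
  obtain ⟨i, hi⟩ := Opens.mem_iSup.1 (hcov.symm ▸ hx : x ∈ iSup U)
  exact ⟨U i, homOfLE le_top, Sieve.ofArrows_mk _ _ i, hi⟩

variable [HasDerivedCategory.{u} (CohTop.Ab X)] (φ : K ⟶ I) [QuasiIso φ] [I.IsKInjective]

theorem stair_bd (hI : ∀ q, Injective (I.X q)) (hcov : iSup U = ⊤) {n : ℤ} : ∀ (p : ℕ) (q : ℤ)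
    (z : CC U I p q) (a : Z I (⊤ : Opens X) n), Stair U I n p q z a → ∀ (q' : ℤ), q' + 1 = q →
      ∀ w : CC U I p q', dC U I p q' w = 0 → dI U I p q' q w = z → cls φ (⊤ : Opens X) n a = 0
  | 0, q, z, a, ⟨h, e⟩, q', hq', w, hw, hwz => by
    subst h
    obtain ⟨b, rfl⟩ := exists_aug_eq (nerve U) (cover_top U hcov) (I.X q') w hw
    refine (cls_eq_zero_iff φ (⊤ : Opens X) q q' hq' a).2 ⟨b, aug_injective (nerve U) (cover_top U hcov) (I.X q) ?_⟩
    exact ((cxMap_aug (dd I q' q) b).symm.trans hwz).trans e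
  | p+1, q, z, a, ⟨y, e, h⟩, q', hq', w, hw, hwz => by
    have := injective_obj (I.X q') (J := Opens.grothendieckTopology X)
    obtain ⟨v, rfl⟩ := exists_d_eq_of_injective (nerve U) (P := (I.X q').obj) w hw
    refine stair_bd hI hcov p (q+1) _ a h q rfl (y - dI U I p q' q v) ?_ ?_
    · rw [map_sub, e, dC_dI, sub_eq_zero]
      exact hwz.symm
    · rw [map_sub, dI_dI, sub_zero]

variable (n : ℤ)

/-- The pairs in staircase position. -/
def SG (I : CochainComplex (CohTop.Ab X) ℤ) (p : ℕ) : AddSubgroup (CC U I p (n - p) × Z I (⊤ : Opens X) n) where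
  carrier := {x | Stair U I n p (n - p) x.1 x.2}
  add_mem' hx hy := stair_add U I p _ _ _ _ _ hx hy
  zero_mem' := stair_zero U I p _ (by omega)
  neg_mem' hx := stair_neg U I p _ _ _ hx

/-- The filtration. -/
noncomputable def GA (p : ℕ) : AddSubgroup (CohCx.HDU (DerivedCategory.Q.obj K) n (⊤ : Opens X)) :=
  (SG U n I p).map ((cls φ (⊤ : Opens X) n).comp (AddMonoidHom.snd _ _))

theorem mem_GA {p : ℕ} {q : ℤ} (h : q + p = n) {z : CC U I p q} {a : Z I (⊤ : Opens X) n}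
    (hs : Stair U I n p q z a) : cls φ (⊤ : Opens X) n a ∈ GA U φ n p := by
  obtain rfl : q = n - p := by omega
  exact ⟨(z, a), hs, rfl⟩

theorem exists_of_mem {p : ℕ} {c : CohCx.HDU (DerivedCategory.Q.obj K) n (⊤ : Opens X)} (h : c ∈ GA U φ n p)
    {q : ℤ} (hq : q + p = n) : ∃ z a, Stair U I n p q z a ∧ cls φ (⊤ : Opens X) n a = c := by
  obtain rfl : q = n - p := by omega
  obtain ⟨⟨z, a⟩, hs, e⟩ := h
  exact ⟨z, a, hs, e⟩

theorem GA_antitone : Antitone (GA U φ n) := antitone_nat_of_succ_le fun p c hc => by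
  obtain ⟨z, a, ⟨y, -, h⟩, rfl⟩ := exists_of_mem U φ n hc (q := n - (p+1)) (by omega)
  exact mem_GA U φ n (by omega) h

theorem GA_zero : GA U φ n 0 = ⊤ := eq_top_iff.2 fun c _ => by
  obtain ⟨a, rfl⟩ := cls_surjective φ (⊤ : Opens X) n c
  exact mem_GA U φ n (q := n) (by simp) (z := au U I n a.1) ⟨rfl, rfl⟩

theorem GA_eq_bot (hI : ∀ q, Injective (I.X q)) (hcov : iSup U = ⊤) (b : ℤ) [I.IsStrictlyGE b] (N : ℕ)
    (hN : n - N < b) : GA U φ n N = ⊥ := eq_bot_iff.2 fun c hc => by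
  obtain ⟨z, a, h, rfl⟩ := exists_of_mem U φ n hc (q := n - N) (by omega)
  have hz : z = 0 := co_ext fun t => by
    have := AddCommGrpCat.subsingleton_of_isZero (Functor.map_isZero
      (sheafToPresheaf _ AddCommGrpCat.{u} ⋙ (evaluation _ _).obj (op (tup U t)))
      (I.isZero_of_isStrictlyGE b (n - N) hN))
    exact @Subsingleton.elim _ this _ _
  subst hz
  exact stair_bd U φ hI hcov N (n - N) 0 a h (n - N - 1) (by omega) 0 (map_zero _) (map_zero _)

theorem GA_one : GA U φ n 1 = ⨅ i,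
    (CohCx.HDUres (DerivedCategory.Q.obj K) n (homOfLE le_top : U i ⟶ (⊤ : Opens X))).ker := by
  have hres : ∀ (V : Opens X) (a : Z I (⊤ : Opens X) n),
      CohCx.HDUres (DerivedCategory.Q.obj K) n (homOfLE le_top : V ⟶ (⊤ : Opens X)) (cls φ (⊤ : Opens X) n a) = 0 ↔
        ∃ t, (dd I (n-1) n).app (op V) t = (I.X n).obj.map (homOfLE le_top : V ⟶ (⊤ : Opens X)).op a.1 := by
    intro V a
    have hm : (I.X n).obj.map (homOfLE le_top : V ⟶ (⊤ : Opens X)).op a.1 ∈ Z I V n := by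
      rw [mem_Z]
      refine (congr($((dd I n (n+1)).naturality (homOfLE le_top : V ⟶ (⊤ : Opens X)).op) a.1)).trans ?_
      exact (congrArg ((I.X (n+1)).obj.map (homOfLE le_top : V ⟶ (⊤ : Opens X)).op) a.2).trans
        (map_zero ((I.X (n+1)).obj.map (homOfLE le_top : V ⟶ (⊤ : Opens X)).op).hom)
    rw [res_cls φ _ n a ⟨_, hm⟩ rfl, cls_eq_zero_iff φ V n (n-1) (by omega) ⟨_, hm⟩]
  ext c
  simp only [AddSubgroup.mem_iInf, AddMonoidHom.mem_ker]
  refine ⟨fun hc i => ?_, fun hc => ?_⟩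
  · obtain ⟨z, a, ⟨y, -, h⟩, rfl⟩ := exists_of_mem U φ n hc (q := n - 1) (by simp)
    obtain ⟨hq, e⟩ := h
    rw [hres]
    let t : Fin 1 → ι := fun _ => i
    let f : U i ⟶ tup U t := Pi.lift fun k => 𝟙 (U i)
    refine ⟨(I.X (n-1)).obj.map f.op (co t y), ?_⟩
    have e' : (dd I (n-1) n).app (op (tup U t)) (co t y) =
        (I.X n).obj.map ((𝟭 (Opens X)).map (Pi.π (U ∘ t) 0) ≫ (homOfLE le_top : U i ⟶ (⊤ : Opens X))).op a.1 := by
      have aux : ∀ (m : ℤ) (hq : m = n) (w : CC U I 0 m), (hq ▸ w : CC U I 0 n) = au U I n a.1 →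
          w = dI U I 0 (n-1) m y → dI U I 0 (n-1) n y = au U I n a.1 := by
        intro m hq w h1 h2
        subst hq
        exact h2.symm.trans h1
      exact ((co_cxMap (dd I (n-1) n) t y).symm.trans (congrArg (co t) (aux _ hq _ e rfl))).trans (co_aug _ _ _)
    refine (congr($((dd I (n-1) n).naturality f.op) (co t y))).trans ?_
    refine (congrArg ((I.X n).obj.map f.op) e').trans ((map_apply_comp _ _ _ _).trans ?_)
    exact congrArg (fun g => (I.X n).obj.map (Quiver.Hom.op g) a.1) (Subsingleton.elim _ _)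
  · obtain ⟨a, rfl⟩ := cls_surjective φ (⊤ : Opens X) n c
    choose t ht using fun i => (hres (U i) a).1 (hc i)
    let y : CC U I 0 (n-1) := mk fun s => (I.X (n-1)).obj.map ((𝟭 (Opens X)).map (Pi.π (U ∘ s) 0)).op (t (s 0))
    have hy : dI U I 0 (n-1) n y = au U I n a.1 := co_ext fun s => by
      rw [co_cxMap, co_aug, co_mk]
      refine (congr($((dd I (n-1) n).naturality _) (t (s 0)))).trans ?_
      refine (congrArg _ (ht (s 0))).trans ((map_apply_comp _ _ _ _).trans ?_)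
      exact congrArg (fun g => (I.X n).obj.map (Quiver.Hom.op g) a.1) (Subsingleton.elim _ _)
    have aux : ∀ (m : ℤ) (hq : m = n), (hq ▸ dI U I 0 (n-1) m y : CC U I 0 n) = au U I n a.1 := by
      intro m hq
      subst hq
      exact hy
    exact mem_GA U φ n (q := n - 1) (z := dC U I 0 (n-1) y) (by simp) ⟨y, rfl, by omega, aux _ (by omega)⟩

theorem graded (p : ℕ) : HTor.IsSubquotient ℤ (HTor.grDesc (fun p => AddSubgroup.toIntSubmodule (GA U φ n p)) p)
    (CohB1.cechHTop U (CohCx.HDUPresheaf (DerivedCategory.Q.obj K) (n - p)) p) := by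
  let F := CohCx.HDUPresheaf (DerivedCategory.Q.obj K) (n - p)
  let Cx := cx (𝟭 (Opens X)) U F
  let toZ : SG U n I p →+ ZC U I p (n - p) :=
    AddMonoidHom.mk' (fun x => ⟨x.1.1, (stair_closed U I p _ _ _ x.2).2⟩) fun x y => rfl
  have hd : ∀ x, Cx.d p (p+1) (clsC U φ p (n-p) (toZ x)) = 0 := fun x =>
    (d_clsC U φ p (n-p) (toZ x) 0 ((stair_closed U I p _ _ _ x.2).1)).trans (map_zero _)
  let α : SG U n I p →+ Cx.homology p :=
    (hcls Cx p).comp (((clsC U φ p (n-p)).comp toZ).codRestrict _ hd)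
  let β : SG U n I p →+ HTor.grDesc (fun p => AddSubgroup.toIntSubmodule (GA U φ n p)) p :=
    ((Submodule.mkQ (Submodule.comap (AddSubgroup.toIntSubmodule (GA U φ n p)).subtype
      (AddSubgroup.toIntSubmodule (GA U φ n (p+1))))).toAddMonoidHom).comp
      (((cls φ (⊤ : Opens X) n).comp ((AddMonoidHom.snd _ _).comp (SG U n I p).subtype)).codRestrict
        (AddSubgroup.toIntSubmodule (GA U φ n p)).toAddSubgroup (fun x => ⟨x.1, x.2, rfl⟩))
  refine isSubquotient_of_homs (T := Cx.homology p) α β ?_ ?_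
  · intro c
    obtain ⟨⟨c, hc⟩, rfl⟩ := Submodule.mkQ_surjective _ c
    obtain ⟨z, a, hs, e⟩ := exists_of_mem U φ n hc (q := n - p) (by omega)
    exact ⟨⟨(z, a), hs⟩, congrArg (Submodule.mkQ _) (Subtype.ext e)⟩
  · intro x hx
    refine (Submodule.Quotient.mk_eq_zero _).2 ?_
    change cls φ (⊤ : Opens X) n x.1.2 ∈ GA U φ n (p+1)
    obtain ⟨⟨z, a⟩, hs⟩ := x
    have hstep : ∀ z' : ZC U I p (n - p), Stair U I n p (n-p) z'.1 a → clsC U φ p (n-p) z' = 0 →
        cls φ (⊤ : Opens X) n a ∈ GA U φ n (p+1) := fun z' hs' h0 => by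
      obtain ⟨v, hv⟩ := (clsC_eq_zero_iff U φ p (n-p) (n-p-1) (by omega) z').1 h0
      exact mem_GA U φ n (q := n - p - 1) (by omega)
        (stair_push U I p (n-p) (n-p-1) (by omega) v a (hv ▸ hs'))
    obtain ⟨-, h0⟩ | ⟨r, w, rfl, hw⟩ := hcls_eq_zero Cx p _ hx
    · exact hstep ⟨z, _⟩ hs h0
    · obtain ⟨w, rfl⟩ := clsC_surjective U φ r _ w
      let z₀ : ZC U I (r+1) (n - (r+1 : ℕ)) := ⟨dC U I r _ w.1, AddMonoidHom.mem_ker.2
        ((dC_dI U I r _ _ w.1).symm.trans ((congrArg _ w.2).trans (map_zero _)))⟩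
      refine hstep (toZ ⟨(z, a), hs⟩ - z₀) (stair_sub_boundary U I r _ z a hs w.1 w.2) ?_
      rw [map_sub, ← d_clsC U φ r _ w z₀ rfl, sub_eq_zero]
      exact hw.symm

end Groth.L10.CechHDU
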