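import Groth.Agent.L10.CechHDU.Inj
import Groth.Agent.L10.CechNerves
import Groth.Agent.L10.TotalQis
import Groth.Agent.L10.LerayAcyclicBase
import Groth.Agent.L00.CellTower
import Groth.Agent.L00.ConeTransfer
import Groth.Prelude.Def_CechTot
import Mathlib.Algebra.Homology.TotalComplexSymmetry
import Mathlib.Algebra.Homology.Embedding.ExtendHomology
import Mathlib.Algebra.Homology.HomologicalComplexAbelian
import Mathlib.Algebra.Homology.ShortComplex.Ab
import Mathlib.Algebra.Homology.DerivedCategory.Ext.EnoughInjectives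

/-! Čech hypercohomology of a complex of sheaves acyclic on the intersections of a cover. -/

set_option autoImplicit false
set_option linter.style.haveILetI false
set_option backward.defeqAttrib.useBackward true
set_option backward.isDefEq.respectTransparency false
set_option backward.isDefEq.respectTransparency.types false

universe v u

open CategoryTheory CategoryTheory.Limits CategoryTheory.Abelian Opposite TopologicalSpace

noncomputable section

namespace Groth.L10.CechHDU.Hyper

open Groth.L10.Cech Groth.L10.LerayBase Groth.L10.SiteCoh Groth.L10.CechHDU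

local notation "up" => ComplexShape.up ℤ

theorem quasiIso_of_eval {A : Type*} [Category A] [Abelian A] {K L : HomologicalComplex₂ A up up} (φ : K ⟶ L)
    (h : ∀ c : ℤ, QuasiIso (((HomologicalComplex.eval A up c).mapHomologicalComplex up).map φ)) : QuasiIso φ where
  quasiIsoAt i := by
    rw [quasiIsoAt_iff_isIso_homologyMap]
    let ψ := (HomologicalComplex.shortComplexFunctor (HomologicalComplex A up) up i).map φ
    have : ∀ c, IsIso ((ShortComplex.homologyMap ψ).f c) := fun c => by
      let F := HomologicalComplex.eval A up c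
      have := h c
      haveI h1 : IsIso (ShortComplex.homologyMap (F.mapShortComplex.map ψ)) :=
        (quasiIsoAt_iff_isIso_homologyMap ((F.mapHomologicalComplex up).map φ) i).1 inferInstance
      have e := ShortComplex.mapHomologyIso_hom_naturality ψ F
      have h2 : F.map (ShortComplex.homologyMap ψ) = ((K.sc i).mapHomologyIso F).inv ≫
          ShortComplex.homologyMap (F.mapShortComplex.map ψ) ≫ ((L.sc i).mapHomologyIso F).hom := by
        rw [Iso.eq_inv_comp]
        exact e.symm
      show IsIso (F.map (ShortComplex.homologyMap ψ))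
      rw [h2]
      infer_instance
    exact HomologicalComplex.Hom.isIso_of_components (ShortComplex.homologyMap ψ)

section Sections

variable {C : Type u} [SmallCategory C] {J : GrothendieckTopology C} {V : C}

theorem acy_injective (I : Sheaf J AddCommGrpCat.{u}) [Injective I] : Acy V I := fun p =>
  subsingleton_of_forall_eq 0 fun x => Ext.eq_zero_of_injective x

theorem acy_of_isZero {M : Sheaf J AddCommGrpCat.{u}} (h : IsZero M) : Acy V M := fun p =>
  subsingleton_of_forall_eq 0 fun x => by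
    rw [← Ext.comp_mk₀_id x, h.eq_of_src (𝟙 M) 0, Ext.mk₀_zero, Ext.comp_zero]

theorem eq_zero_of_factor {M A : Sheaf J AddCommGrpCat.{u}} {n : ℕ} [Subsingleton (Ext (fs J V) A n)]
    (f : M ⟶ A) (g : A ⟶ M) (x : Ext (fs J V) M n) : x.comp (Ext.mk₀ (f ≫ g)) (add_zero n) = 0 := by
  rw [← Ext.mk₀_comp_mk₀, ← Ext.comp_assoc_of_second_deg_zero,
    Subsingleton.elim (x.comp (Ext.mk₀ f) (add_zero n)) 0, Ext.zero_comp]

theorem acy_cone {K I : CochainComplex (Sheaf J AddCommGrpCat.{u}) ℤ} (φ : K ⟶ I)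
    (hK : ∀ i, Acy V (K.X i)) (hI : ∀ i, Acy V (I.X i)) (i : ℤ) : Acy V ((CochainComplex.mappingCone φ).X i) :=
  fun p => subsingleton_of_forall_eq 0 fun x => by
    haveI := hK (i + 1) p
    haveI := hI i p
    rw [← Ext.comp_mk₀_id x, ← CochainComplex.mappingCone.id_X φ i (i + 1) rfl, Ext.mk₀_add, Ext.comp_add,
      eq_zero_of_factor, eq_zero_of_factor, add_zero]

variable {K : CochainComplex (Sheaf J AddCommGrpCat.{u}) ℤ}

/-- The sequence of cycles of an exact complex. -/
abbrev cycSeq (K : CochainComplex (Sheaf J AddCommGrpCat.{u}) ℤ) (i j : ℤ) :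
    ShortComplex (Sheaf J AddCommGrpCat.{u}) :=
  ShortComplex.mk (K.iCycles i) (K.toCycles i j) (by
    rw [← cancel_mono (K.iCycles j), Category.assoc, K.toCycles_i, K.iCycles_d, zero_comp])

theorem cycSeq_shortExact (hex : ∀ i, K.ExactAt i) (i j : ℤ) (h : i + 1 = j) : (cycSeq K i j).ShortExact := by
  haveI : Epi (K.toCycles i j) := by
    have hE := ShortComplex.exact_of_g_is_cokernel (ShortComplex.mk _ _ (K.toCycles_comp_homologyπ i j))
      (K.homologyIsCokernel i j (by simp; omega))
    exact hE.epi_f ((hex j).isZero_homology.eq_of_tgt _ _)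
  let S := ShortComplex.mk (K.iCycles i) (K.d i j) (K.iCycles_d i j)
  have hS : S.Exact := ShortComplex.exact_of_f_is_kernel _ (K.cyclesIsKernel i j (by simp; omega))
  let ψ : cycSeq K i j ⟶ S := ShortComplex.homMk (𝟙 _) (𝟙 _) (K.iCycles j) (by simp [S]) (by simp [S])
  haveI : Epi ψ.τ₁ := inferInstanceAs (Epi (𝟙 _))
  haveI : IsIso ψ.τ₂ := inferInstanceAs (IsIso (𝟙 _))
  haveI : Mono ψ.τ₃ := inferInstanceAs (Mono (K.iCycles j))
  exact { exact := (ShortComplex.exact_iff_of_epi_of_isIso_of_mono ψ).2 hS }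

theorem acy_cycles (hex : ∀ i, K.ExactAt i) (a : ℤ) (ha : ∀ i < a, IsZero (K.X i)) (hK : ∀ i, Acy V (K.X i))
    (i : ℤ) : Acy V (K.cycles i) := by
  have key : ∀ (d : ℕ) (i : ℤ), i < a + d → Acy V (K.cycles i) := fun d => by
    induction d with
    | zero => exact fun i hi => acy_of_isZero (IsZero.of_mono (K.iCycles i) (ha i (by omega)))
    | succ d ih =>
      intro i hi
      exact (ih (i - 1) (by omega)).quot (cycSeq_shortExact hex (i - 1) i (by omega)) (hK (i - 1))
  exact key (i - a + 1).toNat i (by omega)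

/-- Sections of an exact bounded below complex of acyclic sheaves are exact. -/
theorem exists_sect_preimage (hex : ∀ i, K.ExactAt i) (a : ℤ) (ha : ∀ i < a, IsZero (K.X i))
    (hK : ∀ i, Acy V (K.X i)) (i j l : ℤ) (hij : i + 1 = j) (hjl : j + 1 = l) (x : (K.X j).obj.obj (op V))
    (hx : (K.d j l).hom.app (op V) x = 0) : ∃ y, (K.d i j).hom.app (op V) y = x := by
  have h1 : (K.toCycles j l).hom.app (op V) x = 0 :=
    (app_injective (cycSeq_shortExact hex l (l + 1) rfl) V)
      (((congr(($(K.toCycles_i j l)).hom.app (op V) x)).trans hx).trans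
        (map_zero ((K.iCycles l).hom.app (op V)).hom).symm)
  obtain ⟨z, hz⟩ := app_exact (cycSeq_shortExact hex j l hjl) V x h1
  obtain ⟨y, hy⟩ := (acy_cycles hex a ha hK i).surjective (cycSeq_shortExact hex i j hij) z
  exact ⟨y, ((congr(($(K.toCycles_i i j)).hom.app (op V) y)).symm.trans
    (congrArg ((K.iCycles j).hom.app (op V)) hy)).trans hz⟩

end Sections

variable {X : TopCat.{u}} {ι : Type u} (U : ι → Opens X)

/-- Čech cochains of degree `p`, as a functor of the sheaf. -/
abbrev cechSec (p : ℕ) : CohTop.Ab X ⥤ AddCommGrpCat.{u} :=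
  sheafToPresheaf (Opens.grothendieckTopology X) AddCommGrpCat.{u} ⋙ cechComplexFunctor U ⋙
    HomologicalComplex.eval AddCommGrpCat.{u} (ComplexShape.up ℕ) p

instance (p : ℕ) : (cechSec U p).Additive where
  map_add {F G f g} := AddCommGrpCat.hom_ext (AddMonoidHom.ext fun x => co_ext (π := 𝟭 (Opens X)) (Y := U) fun a => by
    refine ((co_cxMap (π := 𝟭 (Opens X)) (Y := U) (f + g).hom a x)).trans ?_
    refine Eq.trans ?_ (map_add (co (π := 𝟭 (Opens X)) (Y := U) (P := G.obj) a)
      ((cxMap (π := 𝟭 (Opens X)) (Y := U) f.hom).f p x) ((cxMap (π := 𝟭 (Opens X)) (Y := U) g.hom).f p x)).symm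
    rw [co_cxMap, co_cxMap]
    rfl)

theorem exact_cechSec (p : ℕ) {K : CochainComplex (CohTop.Ab X) ℤ} (hex : ∀ i, K.ExactAt i) (a : ℤ)
    (ha : ∀ i < a, IsZero (K.X i)) (hK : ∀ (c : Fin (p + 1) → ι) (i : ℤ), Acy (tup U c) (K.X i)) (i : ℤ) :
    (((cechSec U p).mapHomologicalComplex up).obj K).ExactAt i := by
  rw [HomologicalComplex.exactAt_iff' _ (i - 1) i (i + 1) (by simp) (by simp), ShortComplex.ab_exact_iff]
  intro x hx
  have h : ∀ c : Fin (p + 1) → ι, ∃ y, (K.d (i - 1) i).hom.app (op (tup U c)) y =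
      co (π := 𝟭 (Opens X)) (Y := U) (P := (K.X i).obj) c x := fun c => by
    refine exists_sect_preimage hex a ha (hK c) (i - 1) i (i + 1) (by omega) rfl _ ?_
    refine (co_cxMap (π := 𝟭 (Opens X)) (Y := U) (K.d i (i + 1)).hom c x).symm.trans ?_
    exact (congrArg (co (π := 𝟭 (Opens X)) (Y := U) (P := (K.X (i + 1)).obj) c) hx).trans (map_zero _)
  choose y hy using h
  refine ⟨mk (π := 𝟭 (Opens X)) (Y := U) (P := (K.X (i - 1)).obj) y, co_ext (π := 𝟭 (Opens X)) (Y := U) fun c => ?_⟩
  exact ((co_cxMap (π := 𝟭 (Opens X)) (Y := U) (K.d (i - 1) i).hom c _).trans (congrArg _ (co_mk _ _))).trans (hy c)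

theorem quasiIso_cechSec (p : ℕ) {K I : CochainComplex (CohTop.Ab X) ℤ} (φ : K ⟶ I) [QuasiIso φ] (a : ℤ)
    (haK : ∀ i < a, IsZero (K.X i)) (haI : ∀ i < a, IsZero (I.X i))
    (hK : ∀ (c : Fin (p + 1) → ι) (i : ℤ), Acy (tup U c) (K.X i))
    (hI : ∀ (c : Fin (p + 1) → ι) (i : ℤ), Acy (tup U c) (I.X i)) :
    QuasiIso (((cechSec U p).mapHomologicalComplex up).map φ) := by
  refine Groth.L00.Cell.quasiIso_of_acyclic_cone _ fun n => ?_
  rw [← HomologicalComplex.exactAt_iff_isZero_homology]
  refine HomologicalComplex.ExactAt.of_iso (exact_cechSec U p (fun i => ?_) (a - 1) (fun i hi => ?_)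
    (fun c i => acy_cone φ (hK c) (hI c) i) n) (CochainComplex.mappingCone.mapHomologicalComplexIso φ (cechSec U p))
  · exact (HomologicalComplex.exactAt_iff_isZero_homology _ _).2 (Groth.L00.ConeTransfer.acyclic_cone φ i)
  · rw [IsZero.iff_id_eq_zero, ← CochainComplex.mappingCone.id_X φ i (i + 1) rfl,
      (haK (i + 1) (by omega)).eq_of_tgt ((CochainComplex.mappingCone.fst φ).1.v i (i + 1) rfl) 0, zero_comp,
      (haI i (by omega)).eq_of_tgt ((CochainComplex.mappingCone.snd φ).v i i (add_zero i)) 0, zero_comp, add_zero]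

/-- The double complex of sections over the whole space, concentrated in Čech degree zero. -/
abbrev D0 (K : CochainComplex (CohTop.Ab X) ℤ) : HomologicalComplex₂ AddCommGrpCat.{u} up up :=
  ((CochainComplex.single₀ AddCommGrpCat.{u} ⋙
      ComplexShape.embeddingUpNat.extendFunctor AddCommGrpCat.{u}).mapHomologicalComplex up).obj
    (((Γ (J := Opens.grothendieckTopology X) (⊤ : Opens X)).mapHomologicalComplex up).obj K)

/-- The Čech double complex of a complex of sheaves. -/
abbrev L2 (K : CochainComplex (CohTop.Ab X) ℤ) : HomologicalComplex₂ AddCommGrpCat.{u} up up :=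
  CechTot.cech₂ U ((CechTot.presheafCx X).obj K)

/-- The map of Čech double complexes. -/
abbrev L2map {K I : CochainComplex (CohTop.Ab X) ℤ} (φ : K ⟶ I) : L2 U K ⟶ L2 U I :=
  ((cechComplexFunctor (A := AddCommGrpCat.{u}) U ⋙
      ComplexShape.embeddingUpNat.extendFunctor AddCommGrpCat.{u}).mapHomologicalComplex up).map
    ((CechTot.presheafCx X).map φ)

theorem isZero_extend_neg (M : CochainComplex AddCommGrpCat.{u} ℕ) {q : ℤ} (hq : q < 0) :
    IsZero ((M.extend ComplexShape.embeddingUpNat).X q) :=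
  M.isZero_extend_X _ _ fun i hi => by simp at hi; omega

theorem isZero_L2 {K : CochainComplex (CohTop.Ab X) ℤ} {a : ℤ} (ha : ∀ i < a, IsZero (K.X i)) (p q : ℤ)
    (h : p < a ∨ q < 0) : IsZero (((L2 U K).X p).X q) := by
  rcases h with h | h
  · refine Functor.map_isZero (HomologicalComplex.eval AddCommGrpCat.{u} up q) (X := (L2 U K).X p) ?_
    refine Functor.map_isZero (cechComplexFunctor (A := AddCommGrpCat.{u}) U ⋙
      ComplexShape.embeddingUpNat.extendFunctor AddCommGrpCat.{u}) ?_
    exact Functor.map_isZero (sheafToPresheaf (Opens.grothendieckTopology X) AddCommGrpCat.{u}) (ha p h)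
  · exact isZero_extend_neg _ h

theorem quasiIso_L2map {K I : CochainComplex (CohTop.Ab X) ℤ} (φ : K ⟶ I) [QuasiIso φ] (a : ℤ)
    (haK : ∀ i < a, IsZero (K.X i)) (haI : ∀ i < a, IsZero (I.X i))
    (hK : ∀ (p : ℕ) (c : Fin (p + 1) → ι) (i : ℤ), Acy (tup U c) (K.X i))
    (hI : ∀ (p : ℕ) (c : Fin (p + 1) → ι) (i : ℤ), Acy (tup U c) (I.X i)) : QuasiIso (L2map U φ) := by
  refine quasiIso_of_eval _ fun c => ?_
  by_cases hc : 0 ≤ c
  · obtain ⟨p, rfl⟩ : ∃ p : ℕ, (p : ℤ) = c := ⟨c.toNat, Int.toNat_of_nonneg hc⟩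
    let e : cechComplexFunctor (A := AddCommGrpCat.{u}) U ⋙ ComplexShape.embeddingUpNat.extendFunctor AddCommGrpCat.{u} ⋙
        HomologicalComplex.eval AddCommGrpCat.{u} up (p : ℤ) ≅
        cechComplexFunctor U ⋙ HomologicalComplex.eval AddCommGrpCat.{u} (ComplexShape.up ℕ) p :=
      NatIso.ofComponents (fun P => ((cechComplexFunctor U).obj P).extendXIso _ rfl) fun {P Q} f => by
        show (HomologicalComplex.extendMap ((cechComplexFunctor U).map f) ComplexShape.embeddingUpNat).f (p : ℤ) ≫ _ = _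
        rw [HomologicalComplex.extendMap_f ((cechComplexFunctor U).map f) ComplexShape.embeddingUpNat (i := p)
          (i' := (p : ℤ)) rfl]
        simp
    let e' : ((HomologicalComplex.eval AddCommGrpCat.{u} up (p : ℤ)).mapHomologicalComplex up).obj (L2 U K) ≅
        ((cechSec U p).mapHomologicalComplex up).obj K :=
      HomologicalComplex.Hom.isoOfComponents (fun i => e.app (K.X i).obj) fun i j _ =>
        (e.hom.naturality (K.d i j).hom).symm
    let e'' : ((HomologicalComplex.eval AddCommGrpCat.{u} up (p : ℤ)).mapHomologicalComplex up).obj (L2 U I) ≅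
        ((cechSec U p).mapHomologicalComplex up).obj I :=
      HomologicalComplex.Hom.isoOfComponents (fun i => e.app (I.X i).obj) fun i j _ =>
        (e.hom.naturality (I.d i j).hom).symm
    haveI := quasiIso_cechSec U p φ a haK haI (hK p) (hI p)
    exact quasiIso_of_arrow_mk_iso (((cechSec U p).mapHomologicalComplex up).map φ) _ (Arrow.isoMk e'.symm e''.symm (by
      ext i : 1
      exact (e.inv.naturality (φ.f i).hom).symm))
  · refine Groth.L00.Cell.quasiIso_of_acyclic_cone _ fun n => ?_
    rw [← HomologicalComplex.exactAt_iff_isZero_homology]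
    refine ShortComplex.exact_of_isZero_X₂ _ ?_
    rw [IsZero.iff_id_eq_zero]
    exact (CochainComplex.mappingCone.ext_to_iff
      (((HomologicalComplex.eval AddCommGrpCat.{u} up c).mapHomologicalComplex up).map (L2map U φ)) n (n + 1) rfl _ _).2
      ⟨(isZero_extend_neg _ (by omega)).eq_of_tgt _ _, (isZero_extend_neg _ (by omega)).eq_of_tgt _ _⟩

theorem isNerve_top : IsNerve (𝟭 (Opens X)) U (fun i => (homOfLE le_top : U i ⟶ (⊤ : Opens X))) where
  comp _ _ _ := Subsingleton.elim _ _
  lift {n} a {V} g _ := ⟨Pi.lift g, fun k => Subsingleton.elim _ _⟩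
  hom_ext {n} a {V} h h' _ := Subsingleton.elim _ _

/-- The augmentation of Čech complexes. -/
def augNat : Γ (J := Opens.grothendieckTopology X) (⊤ : Opens X) ⋙ CochainComplex.single₀ AddCommGrpCat.{u} ⟶
    sheafToPresheaf (Opens.grothendieckTopology X) AddCommGrpCat.{u} ⋙ cechComplexFunctor U where
  app F := (CochainComplex.fromSingle₀Equiv _ _).symm
    ⟨AddCommGrpCat.ofHom (aug (𝟭 (Opens X)) U (fun i => (homOfLE le_top : U i ⟶ (⊤ : Opens X))) F.obj),
      AddCommGrpCat.hom_ext (AddMonoidHom.ext fun s => d_aug (isNerve_top U) F.obj s)⟩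
  naturality F G f := by
    refine HomologicalComplex.from_single_hom_ext ?_
    exact AddCommGrpCat.hom_ext (AddMonoidHom.ext fun s => by
      simp [CochainComplex.fromSingle₀Equiv]
      exact (cxMap_aug (π := 𝟭 (Opens X)) (Y := U) f.hom s).symm)

theorem quasiIso_augNat (hcov : iSup U = ⊤) (F : CohTop.Ab X) [Injective F] : QuasiIso ((augNat U).app F) := by
  haveI := injective_obj F
  have hN : IsNerve (𝟭 (Opens X)) U (fun i => (homOfLE le_top : U i ⟶ (⊤ : Opens X))) :=
    isNerve_top U
  have hC : Sieve.ofArrows (fun i => (𝟭 (Opens X)).obj (U i)) (fun i => (homOfLE le_top : U i ⟶ (⊤ : Opens X))) ∈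
      Opens.grothendieckTopology X (⊤ : Opens X) := fun x hx => by
    obtain ⟨i, hi⟩ := Opens.mem_iSup.1 (hcov.symm ▸ hx : x ∈ iSup U)
    exact ⟨U i, homOfLE le_top, Sieve.ofArrows_mk _ _ i, hi⟩
  refine ⟨fun n => ?_⟩
  cases n with
  | zero =>
    rw [CochainComplex.quasiIsoAt₀_iff, ShortComplex.quasiIso_iff_of_zeros _ rfl rfl rfl]
    · have h0 : ((augNat U).app F).f 0 =
          AddCommGrpCat.ofHom (aug (𝟭 (Opens X)) U (fun i => (homOfLE le_top : U i ⟶ (⊤ : Opens X))) F.obj) := by
        simp [augNat, CochainComplex.fromSingle₀Equiv]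
      refine ⟨(ShortComplex.ab_exact_iff _).2 fun x hx => ?_, ?_⟩
      · obtain ⟨s, hs⟩ := exists_aug_eq hN hC F x hx
        refine ⟨s, ?_⟩
        show ((augNat U).app F).f 0 s = x
        rw [h0]
        exact hs
      · show Mono (((augNat U).app F).f 0)
        rw [h0]
        exact (AddCommGrpCat.mono_iff_injective _).2 (aug_injective hN hC F)
  | succ n =>
    rw [quasiIsoAt_iff_exactAt _ _ (CochainComplex.exactAt_succ_single_obj _ n)]
    exact exactAt_of_injective hN n

/-- The augmentation of the Čech double complex. -/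
def aug2 (K : CochainComplex (CohTop.Ab X) ℤ) : D0 K ⟶ L2 U K where
  f q := (ComplexShape.embeddingUpNat.extendFunctor AddCommGrpCat.{u}).map ((augNat U).app (K.X q))
  comm' q q' _ :=
    (((ComplexShape.embeddingUpNat.extendFunctor AddCommGrpCat.{u}).map_comp _ _).symm.trans
      (congrArg (ComplexShape.embeddingUpNat.extendFunctor AddCommGrpCat.{u}).map
        ((augNat U).naturality (K.d q q')).symm)).trans
      ((ComplexShape.embeddingUpNat.extendFunctor AddCommGrpCat.{u}).map_comp _ _)

theorem isZero_D0 {K : CochainComplex (CohTop.Ab X) ℤ} {a : ℤ} (ha : ∀ i < a, IsZero (K.X i)) (p q : ℤ)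
    (h : p < a ∨ q ≠ 0) : IsZero (((D0 K).X p).X q) := by
  by_cases hp : p < a
  · refine Functor.map_isZero (HomologicalComplex.eval AddCommGrpCat.{u} up q) (X := (D0 K).X p) ?_
    refine Functor.map_isZero (CochainComplex.single₀ AddCommGrpCat.{u} ⋙
      ComplexShape.embeddingUpNat.extendFunctor AddCommGrpCat.{u}) ?_
    exact Functor.map_isZero (Γ (J := Opens.grothendieckTopology X) (⊤ : Opens X)) (ha p hp)
  · rcases lt_or_gt_of_ne (h.resolve_left hp) with h' | h'
    · exact isZero_extend_neg _ h'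
    · obtain ⟨n, rfl⟩ : ∃ n : ℕ, ((n + 1 : ℕ) : ℤ) = q := ⟨q.toNat - 1, by omega⟩
      exact (HomologicalComplex.isZero_single_obj_X _ _ _ _ (Nat.succ_ne_zero n)).of_iso
        (HomologicalComplex.extendXIso _ ComplexShape.embeddingUpNat (i := n + 1) rfl)

variable (K : CochainComplex (CohTop.Ab X) ℤ)

/-- Sections over the whole space. -/
abbrev ΓK : CochainComplex AddCommGrpCat.{u} ℤ :=
  ((Γ (J := Opens.grothendieckTopology X) (⊤ : Opens X)).mapHomologicalComplex up).obj K

/-- The only nonzero column. -/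
def colIso (q : ℤ) : ((D0 K).X q).X 0 ≅ (ΓK K).X q :=
  HomologicalComplex.extendXIso _ ComplexShape.embeddingUpNat (i := 0) rfl

theorem colIso_d (q q' : ℤ) :
    ((D0 K).d q q').f 0 ≫ (colIso K q').hom = (colIso K q).hom ≫ (ΓK K).d q q' := by
  show (HomologicalComplex.extendMap ((CochainComplex.single₀ AddCommGrpCat.{u}).map ((ΓK K).d q q'))
    ComplexShape.embeddingUpNat).f 0 ≫ _ = _
  rw [HomologicalComplex.extendMap_f ((CochainComplex.single₀ AddCommGrpCat.{u}).map ((ΓK K).d q q'))
    ComplexShape.embeddingUpNat (i := 0) (i' := 0) rfl, CochainComplex.single₀_map_f_zero]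
  simp [colIso]

/-- The total complex of a single column. -/
def totD0Iso {a : ℤ} (ha : ∀ i < a, IsZero (K.X i)) : (D0 K).total up ≅ ΓK K :=
  HomologicalComplex.Hom.isoOfComponents
    (fun n =>
      { hom := TotalQis.pr (D0 K) n n 0 (add_zero n) ≫ (colIso K n).hom
        inv := (colIso K n).inv ≫ TotalQis.ι (D0 K) n n 0 (add_zero n)
        hom_inv_id := by
          refine HomologicalComplex₂.total.hom_ext _ fun i j hij => ?_
          have hij' : i + j = n := hij
          by_cases hj : j = 0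
          · subst hj
            obtain rfl : i = n := by omega
            simp only [Category.comp_id, Category.assoc, Iso.hom_inv_id_assoc,
              reassoc_of% (TotalQis.ι_pr_self (D0 K) i i 0 hij)]
          · exact (isZero_D0 ha i j (Or.inr hj)).eq_of_src _ _
        inv_hom_id := by
          simp only [Category.assoc, reassoc_of% (TotalQis.ι_pr_self (D0 K) n n 0 (add_zero n)), Iso.inv_hom_id] })
    fun n m hnm => by
      have hnm' : n + 1 = m := hnm
      simp only [Category.assoc]
      rw [reassoc_of% (TotalQis.d_pr (D0 K) n m n m (-1) 0 hnm' hnm' (by omega) (add_zero m))]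
      simp only [Category.assoc,
        (isZero_D0 ha m (-1) (Or.inr (by omega))).eq_of_src (((D0 K).X m).d (-1) 0) 0, comp_zero,
        smul_zero, add_zero, colIso_d]

theorem quasiIso_aug2_flip (hcov : iSup U = ⊤) (hI : ∀ q, Injective (K.X q)) :
    QuasiIso ((HomologicalComplex₂.flipFunctor AddCommGrpCat.{u} up up).map (aug2 U K)) :=
  quasiIso_of_eval _ fun q => by
    have := hI q
    haveI := quasiIso_augNat U hcov (K.X q)
    haveI : QuasiIso (HomologicalComplex.extendMap ((augNat U).app (K.X q)) ComplexShape.embeddingUpNat) :=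
      (HomologicalComplex.quasiIso_extendMap_iff _ ComplexShape.embeddingUpNat).2 inferInstance
    exact (inferInstance : QuasiIso (HomologicalComplex.extendMap ((augNat U).app (K.X q)) ComplexShape.embeddingUpNat))

variable {K}

theorem nonempty_hyperH_iso_homology (hcov : iSup U = ⊤) (hI : ∀ q, Injective (K.X q)) {a : ℤ}
    (ha : ∀ i < a, IsZero (K.X i)) (n : ℤ) :
    Nonempty (CechTot.hyperH U ((CechTot.presheafCx X).obj K) n ≅ (ΓK K).homology n) := by
  let ψ := (HomologicalComplex₂.flipFunctor AddCommGrpCat.{u} up up).map (aug2 U K)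
  haveI := quasiIso_aug2_flip U K hcov hI
  haveI : QuasiIso (HomologicalComplex₂.total.map ψ up) :=
    TotalQis.quasiIso_total ψ 0 a
      (fun p q h => isZero_D0 ha q p (h.symm.imp id fun h' => ne_of_lt h'))
      (fun p q h => isZero_L2 U ha q p h.symm)
  let e : ((D0 K).flip.total up).homology n ≅ ((L2 U K).flip.total up).homology n :=
    asIso (HomologicalComplex.homologyMap (HomologicalComplex₂.total.map ψ up) n)
  exact ⟨(HomologicalComplex.homologyFunctor AddCommGrpCat.{u} up n).mapIso ((L2 U K).totalFlipIso up).symm ≪≫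
    e.symm ≪≫ (HomologicalComplex.homologyFunctor AddCommGrpCat.{u} up n).mapIso
      ((D0 K).totalFlipIso up ≪≫ totD0Iso K ha)⟩

theorem nonempty_homology_equiv_HDU [HasDerivedCategory.{u} (CohTop.Ab X)] {I : CochainComplex (CohTop.Ab X) ℤ}
    (φ : K ⟶ I) [QuasiIso φ] [I.IsKInjective] (n : ℤ) :
    Nonempty (↑((ΓK I).homology n) ≃+ CohCx.HDU (DerivedCategory.Q.obj K) n (⊤ : Opens X)) := by
  let S := (ΓK I).sc' (n - 1) n (n + 1)
  let e := (HomologicalComplex.homologyFunctorIso' AddCommGrpCat.{u} up (n - 1) n (n + 1) (by simp) (by simp)).app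
    (ΓK I) ≪≫ S.abHomologyIso
  let c : S.g.hom.ker →+ CohCx.HDU (DerivedCategory.Q.obj K) n (⊤ : Opens X) := cls φ (⊤ : Opens X) n
  have hc : Function.Surjective c := cls_surjective φ (⊤ : Opens X) n
  have hker : AddMonoidHom.range S.abToCycles = c.ker := by
    ext s
    refine ⟨?_, fun hs => ?_⟩
    · rintro ⟨t, rfl⟩
      exact (cls_eq_zero_iff φ (⊤ : Opens X) n (n - 1) (by omega) _).2 ⟨t, rfl⟩
    · obtain ⟨t, ht⟩ := (cls_eq_zero_iff φ (⊤ : Opens X) n (n - 1) (by omega) s).1 hs
      exact ⟨t, Subtype.ext ht⟩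
  exact ⟨e.addCommGroupIsoToAddEquiv.trans ((QuotientAddGroup.quotientAddEquivOfEq hker).trans
    (QuotientAddGroup.quotientKerEquivOfSurjective c hc))⟩

theorem nonempty_hyperH_equiv [HasDerivedCategory.{u} (CohTop.Ab X)] {I : CochainComplex (CohTop.Ab X) ℤ}
    (φ : K ⟶ I) [QuasiIso φ] [I.IsKInjective] (hcov : iSup U = ⊤) (hI : ∀ q, Injective (I.X q)) (a : ℤ)
    (haK : ∀ i < a, IsZero (K.X i)) (haI : ∀ i < a, IsZero (I.X i))
    (hK : ∀ (p : ℕ) (c : Fin (p + 1) → ι) (i : ℤ), Acy (tup U c) (K.X i)) (n : ℤ) :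
    Nonempty (↑(CechTot.hyperH U ((CechTot.presheafCx X).obj K) n) ≃+
      CohCx.HDU (DerivedCategory.Q.obj K) n (⊤ : Opens X)) := by
  haveI := quasiIso_L2map U φ a haK haI hK fun p c i => haveI := hI i; acy_injective (I.X i)
  haveI : QuasiIso (HomologicalComplex₂.total.map (L2map U φ) up) :=
    TotalQis.quasiIso_total (L2map U φ) a 0 (isZero_L2 U haK) (isZero_L2 U haI)
  obtain ⟨e₁⟩ := nonempty_hyperH_iso_homology U hcov hI haI n
  obtain ⟨e₂⟩ := nonempty_homology_equiv_HDU φ n
  exact ⟨((asIso (HomologicalComplex.homologyMap (HomologicalComplex₂.total.map (L2map U φ) up) n)) ≪≫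
    e₁).addCommGroupIsoToAddEquiv.trans e₂⟩

end Groth.L10.CechHDU.Hyper
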