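import Groth.Prelude.Def_CohCx
import Groth.Agent.L10.SiteCoh
import Mathlib.Algebra.Homology.DerivedCategory.KInjective
import Mathlib.Algebra.Homology.HomotopyCategory.HomComplexSingle
import Mathlib.Algebra.Homology.HomotopyCategory.HomComplexCohomology

/-! Hypercohomology computed by sections of a K-injective complex. -/

universe w u

open CategoryTheory CategoryTheory.Limits Opposite CochainComplex CochainComplex.HomComplex

set_option autoImplicit false
set_option backward.defeqAttrib.useBackward true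
set_option backward.isDefEq.respectTransparency false
set_option backward.isDefEq.respectTransparency.types false
namespace Groth.L10.CechHDU

open Groth.L10.SiteCoh

variable {C : Type u} [SmallCategory C] {J : GrothendieckTopology C}
  {K I : CochainComplex (Sheaf J AddCommGrpCat.{u}) ℤ}

/-- Differential on sections. -/
noncomputable abbrev dd (I : CochainComplex (Sheaf J AddCommGrpCat.{u}) ℤ) (q q' : ℤ) :
    (I.X q).obj ⟶ (I.X q').obj := (I.d q q').hom

/-- Closed sections. -/
noncomputable def Z (I : CochainComplex (Sheaf J AddCommGrpCat.{u}) ℤ) (V : C) (q : ℤ) : AddSubgroup ((I.X q).obj.obj (op V)) :=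
  ((dd I q (q+1)).app (op V)).hom.ker

theorem mem_Z {V : C} {q : ℤ} {s : (I.X q).obj.obj (op V)} :
    s ∈ Z I V q ↔ (dd I q (q+1)).app (op V) s = 0 := Iff.rfl

theorem secEquiv_symm_comp_d {V : C} {q : ℤ} (s : Z I V q) :
    (secEquiv J V (I.X q)).symm s.1 ≫ I.d q (q+1) = 0 := (secEquiv J V _).injective (by
  rw [secEquiv_comp, AddEquiv.apply_symm_apply, map_zero]
  exact s.2)

/-- The cocycle attached to a closed section. -/
noncomputable def cocyc (V : C) (q : ℤ) :
    Z I V q →+ Cocycle ((CochainComplex.singleFunctor (Sheaf J AddCommGrpCat.{u}) 0).obj (fs J V)) I q :=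
  AddMonoidHom.mk' (fun s => Cocycle.fromSingleMk ((secEquiv J V (I.X q)).symm s.1) (zero_add q) (q+1) rfl
    (secEquiv_symm_comp_d s)) fun s t => by
      rw [← Cocycle.fromSingleMk_add]
      simp only [AddSubgroup.coe_add, map_add]

variable [HasDerivedCategory.{w} (Sheaf J AddCommGrpCat.{u})] (φ : K ⟶ I) [QuasiIso φ]

/-- The comparison isomorphism. -/
noncomputable def cmp (q : ℤ) :
    DerivedCategory.Qh.obj ((HomotopyCategory.quotient _ _).obj ((CategoryTheory.shiftFunctor _ q).obj I)) ≅
      (CategoryTheory.shiftFunctor (DerivedCategory (Sheaf J AddCommGrpCat.{u})) q).obj (DerivedCategory.Q.obj K) :=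
  (DerivedCategory.quotientCompQhIso _).app _ ≪≫ (DerivedCategory.Q.commShiftIso q).app I ≪≫
    (CategoryTheory.shiftFunctor (DerivedCategory (Sheaf J AddCommGrpCat.{u})) q).mapIso (asIso (DerivedCategory.Q.map φ)).symm

/-- The class of a closed section. -/
noncomputable def cls (V : C) (q : ℤ) : Z I V q →+ CohCx.HDU (DerivedCategory.Q.obj K) q V :=
  (Preadditive.rightComp _ (cmp φ q).hom).comp
    ((DerivedCategory.Qh.mapAddHom).comp ((CohomologyClass.toHom).comp
      ((CohomologyClass.mkAddMonoidHom _ _ _).comp (cocyc (I := I) V q))))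

theorem cls_apply (V : C) (q : ℤ) (s : Z I V q) : cls φ V q s =
    DerivedCategory.Qh.map ((HomotopyCategory.quotient _ _).map (Cocycle.equivHomShift.symm (cocyc V q s))) ≫
      (cmp φ q).hom := rfl

theorem res_cls {U V : C} (f : V ⟶ U) (q : ℤ) (s : Z I U q) (t : Z I V q)
    (h : (I.X q).obj.map f.op s.1 = t.1) :
    CohCx.HDUres (DerivedCategory.Q.obj K) q f (cls φ U q s) = cls φ V q t := by
  have e : cocyc V q t = (cocyc U q s).precomp ((CochainComplex.singleFunctor _ 0).map (fsMap J f)) := by
    change Cocycle.fromSingleMk ((secEquiv J V (I.X q)).symm t.1) (zero_add q) (q+1) rfl (secEquiv_symm_comp_d t) =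
      (Cocycle.fromSingleMk ((secEquiv J U (I.X q)).symm s.1) (zero_add q) (q+1) rfl (secEquiv_symm_comp_d s)).precomp _
    rw [← Cocycle.fromSingleMk_precomp]
    congr 1
    exact (secEquiv J V _).injective (by rw [AddEquiv.apply_symm_apply, secEquiv_map, AddEquiv.apply_symm_apply, h])
  rw [cls_apply, cls_apply, e, Cocycle.equivHomShift_symm_precomp, Functor.map_comp, Functor.map_comp, Category.assoc]
  rfl

variable [I.IsKInjective]

theorem cls_eq_zero_iff (V : C) (q q' : ℤ) (h : q' + 1 = q) (s : Z I V q) :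
    cls φ V q s = 0 ↔ ∃ t, (dd I q' q).app (op V) t = s.1 := by
  have hm : Function.Injective (fun g => DerivedCategory.Qh.map (X := (HomotopyCategory.quotient _ _).obj
      ((CochainComplex.singleFunctor _ 0).obj (fs J V))) (Y := (HomotopyCategory.quotient _ _).obj
      ((CategoryTheory.shiftFunctor _ q).obj I)) g ≫ (cmp φ q).hom) := fun a b hab =>
    (IsKInjective.Qh_map_bijective _ _).1 ((cancel_mono _).1 hab)
  rw [show cls φ V q s = (fun g => DerivedCategory.Qh.map g ≫ (cmp φ q).hom)
    (CohomologyClass.toHom (CohomologyClass.mk (cocyc V q s))) from rfl]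
  have h0 : (fun g => DerivedCategory.Qh.map (X := (HomotopyCategory.quotient _ _).obj
      ((CochainComplex.singleFunctor _ 0).obj (fs J V))) (Y := (HomotopyCategory.quotient _ _).obj
      ((CategoryTheory.shiftFunctor _ q).obj I)) g ≫ (cmp φ q).hom) 0 = 0 := by simp
  rw [← h0, hm.eq_iff, CohomologyClass.toHom_mk_eq_zero_iff]
  refine (Cocycle.fromSingleMk_mem_coboundaries_iff ((secEquiv J V (I.X q)).symm s.1) (zero_add q) (q+1) rfl (secEquiv_symm_comp_d s) q' h).trans ⟨fun ⟨g, hg⟩ => ⟨secEquiv J V _ g, ?_⟩,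
    fun ⟨t, ht⟩ => ⟨(secEquiv J V _).symm t, (secEquiv J V _).injective ?_⟩⟩
  · rw [← secEquiv_comp, hg, AddEquiv.apply_symm_apply]
  · rw [secEquiv_comp, AddEquiv.apply_symm_apply, AddEquiv.apply_symm_apply]
    exact ht

theorem cls_surjective (V : C) (q : ℤ) : Function.Surjective (cls φ V q) := by
  intro x
  obtain ⟨g, hg⟩ := (IsKInjective.Qh_map_bijective
    ((HomotopyCategory.quotient _ _).obj ((CochainComplex.singleFunctor _ 0).obj (fs J V)))
    ((CategoryTheory.shiftFunctor _ q).obj I)).2 (x ≫ (cmp φ q).inv)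
  obtain ⟨c, rfl⟩ := (CohomologyClass.toHom_bijective _ _ _).2 g
  obtain ⟨c, rfl⟩ := c.mk_surjective
  obtain ⟨f, hf, rfl⟩ := Cocycle.fromSingleMk_surjective c q (zero_add q) (q+1) rfl
  let s : Z I V q := ⟨secEquiv J V _ f, by rw [mem_Z, ← secEquiv_comp, hf, map_zero]⟩
  refine ⟨s, ?_⟩
  have e : (secEquiv J V _).symm s.1 = f := AddEquiv.symm_apply_apply _ _
  have e' : cocyc V q s = Cocycle.fromSingleMk f (zero_add q) (q+1) rfl hf := by
    change Cocycle.fromSingleMk ((secEquiv J V (I.X q)).symm s.1) (zero_add q) (q+1) rfl (secEquiv_symm_comp_d s) = _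
    congr 1
  change DerivedCategory.Qh.map (CohomologyClass.toHom (CohomologyClass.mk (cocyc V q s))) ≫ (cmp φ q).hom = x
  rw [e', hg]
  exact (Category.assoc _ _ _).trans ((congrArg (x ≫ ·) (Iso.inv_hom_id _)).trans (Category.comp_id _))

end Groth.L10.CechHDU
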