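import Groth.Agent.L10.CechHDU.Inj
import Groth.Agent.L10.KInjDerived
import Mathlib.Algebra.Homology.DerivedCategory.HomologySequence
import Mathlib.CategoryTheory.Sites.Abelian
import Mathlib.CategoryTheory.Sites.Sheafification
import Mathlib.CategoryTheory.Abelian.GrothendieckAxioms.Sheaf
import Mathlib.Algebra.Category.Grp.AB
import Mathlib.CategoryTheory.Generator.Sheaf
import Mathlib.Algebra.Homology.ShortComplex.PreservesHomology

/-! Sheafified hypercohomology presheaves are the cohomology sheaves. -/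

universe u

open CategoryTheory CategoryTheory.Limits Opposite

set_option autoImplicit false
set_option backward.defeqAttrib.useBackward true
set_option backward.isDefEq.respectTransparency false
set_option backward.isDefEq.respectTransparency.types false
namespace Groth.L10.CechHDU

variable {C : Type u} [SmallCategory C] {J : GrothendieckTopology C}
  [HasDerivedCategory.{u} (Sheaf J AddCommGrpCat.{u})]
  {K I : CochainComplex (Sheaf J AddCommGrpCat.{u}) ℤ}

/-- The complex of presheaves underlying a complex of sheaves. -/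
noncomputable abbrev pc (I : CochainComplex (Sheaf J AddCommGrpCat.{u}) ℤ) : CochainComplex (Cᵒᵖ ⥤ AddCommGrpCat.{u}) ℤ :=
  ((sheafToPresheaf J AddCommGrpCat.{u}).mapHomologicalComplex (ComplexShape.up ℤ)).obj I

theorem iCycles_mem (q : ℤ) (V : Cᵒᵖ) (z : ((pc I).cycles q).obj V) :
    ((pc I).iCycles q).app V z ∈ Z I V.unop q :=
  congr($(congr_app ((pc I).iCycles_d q (q + 1)) V) z)

theorem iCycles_injective (q : ℤ) (V : Cᵒᵖ) : Function.Injective (((pc I).iCycles q).app V) :=
  (AddCommGrpCat.mono_iff_injective _).1 ((NatTrans.mono_iff_mono_app _).1 inferInstance V)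

theorem exists_cycle (q : ℤ) (V : C) (s : Z I V q) : ∃ z, ((pc I).iCycles q).app (op V) z = s.1 := by
  have h := (ShortComplex.exact_of_f_is_kernel (ShortComplex.mk _ _ ((pc I).iCycles_d q (q + 1)))
      ((pc I).cyclesIsKernel q (q + 1) (by simp))).map ((evaluation Cᵒᵖ AddCommGrpCat.{u}).obj (op V))
  rw [ShortComplex.ab_exact_iff] at h
  exact h s.1 s.2

variable (φ : K ⟶ I) [QuasiIso φ]

/-- The class map on cycles. -/
noncomputable def cycCls (q : ℤ) : (pc I).cycles q ⟶ CohCx.HDUPresheaf (DerivedCategory.Q.obj K) q where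
  app V := AddCommGrpCat.ofHom ((cls φ V.unop q).comp
    ((((pc I).iCycles q).app V).hom.codRestrict _ (iCycles_mem q V)))
  naturality V W f := AddCommGrpCat.hom_ext (AddMonoidHom.ext fun z =>
    (res_cls φ f.unop q ⟨_, iCycles_mem q V z⟩ ⟨_, iCycles_mem q W (((pc I).cycles q).map f z)⟩
      (congr($(((pc I).iCycles q).naturality f) z)).symm).symm)

variable [I.IsKInjective]

theorem cycCls_comp (q q' : ℤ) (h : q' + 1 = q) : (pc I).toCycles q' q ≫ cycCls φ q = 0 :=
  NatTrans.ext (funext fun V => AddCommGrpCat.hom_ext (AddMonoidHom.ext fun t => by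
    refine (cls_eq_zero_iff φ V.unop q q' h _).2 ⟨t, ?_⟩
    exact (congr($(congr_app ((pc I).toCycles_i q' q) V) t)).symm))

/-- The comparison from presheaf cohomology to hypercohomology. -/
noncomputable def hCls (q : ℤ) : (pc I).homology q ⟶ CohCx.HDUPresheaf (DerivedCategory.Q.obj K) q :=
  ((pc I).homologyIsCokernel (q - 1) q (by simp)).desc (CokernelCofork.ofπ (cycCls φ q) (cycCls_comp φ q (q - 1) (by omega)))

theorem π_hCls (q : ℤ) : (pc I).homologyπ q ≫ hCls φ q = cycCls φ q :=
  ((pc I).homologyIsCokernel (q - 1) q (by simp)).fac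
    (CokernelCofork.ofπ (cycCls φ q) (cycCls_comp φ q (q - 1) (by omega))) WalkingParallelPair.one

theorem isIso_hCls (q : ℤ) : IsIso (hCls φ q) := by
  have : ∀ V, IsIso ((hCls φ q).app V) := fun ⟨V⟩ => by
    have hp : Function.Surjective (((pc I).homologyπ q).app (op V)) :=
      (AddCommGrpCat.epi_iff_surjective _).1 ((NatTrans.epi_iff_epi_app _).1 inferInstance (op V))
    have hc : ∀ z, (hCls φ q).app (op V) (((pc I).homologyπ q).app (op V) z) =
        cls φ V q ⟨_, iCycles_mem q (op V) z⟩ := fun z => congr($(congr_app (π_hCls φ q) (op V)) z)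
    rw [ConcreteCategory.isIso_iff_bijective]
    refine ⟨(injective_iff_map_eq_zero _).2 fun x hx => ?_, fun y => ?_⟩
    · obtain ⟨z, rfl⟩ := hp x
      rw [hc, cls_eq_zero_iff φ V q (q - 1) (by omega)] at hx
      obtain ⟨t, ht⟩ := hx
      have hz : ((pc I).toCycles (q-1) q).app (op V) t = z :=
        iCycles_injective q (op V) ((congr($(congr_app ((pc I).toCycles_i (q-1) q) (op V)) t)).trans ht)
      rw [← hz]
      exact congr($(congr_app ((pc I).toCycles_comp_homologyπ (q-1) q) (op V)) t)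
    · obtain ⟨s, rfl⟩ := cls_surjective φ V q y
      obtain ⟨z, hz⟩ := exists_cycle q V s
      exact ⟨_, (hc z).trans (congrArg _ (Subtype.ext hz))⟩
  exact NatIso.isIso_of_isIso_app _

variable (K)

theorem sheafify_HDUPresheaf (q : ℤ) (M : DerivedCategory (Sheaf J AddCommGrpCat.{u})) :
    Nonempty ((presheafToSheaf J AddCommGrpCat.{u}).obj (CohCx.HDUPresheaf M q) ≅ CohCx.HD M q) := by
  obtain ⟨K, ⟨e⟩⟩ : ∃ K, Nonempty (DerivedCategory.Q.obj K ≅ M) :=
    ⟨_, ⟨DerivedCategory.Q.objObjPreimageIso M⟩⟩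
  obtain ⟨I, φ, hI, hφ⟩ := KInjDerived.EnoughKInjectives.exists_res (A := Sheaf J AddCommGrpCat.{u}) K
  have := isIso_hCls φ q
  have hq : QuasiIsoAt φ q := hφ.quasiIsoAt q
  let L := presheafToSheaf J AddCommGrpCat.{u}
  let e₁ : CohCx.HDUPresheaf M q ≅ CohCx.HDUPresheaf (DerivedCategory.Q.obj K) q :=
    Functor.isoWhiskerLeft _ (preadditiveYoneda.mapIso
      ((CategoryTheory.shiftFunctor (DerivedCategory (Sheaf J AddCommGrpCat.{u})) q).mapIso e.symm))
  let e₂ : L.obj ((pc I).homology q) ≅ ((L.mapHomologicalComplex _).obj (pc I)).homology q :=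
    (((pc I).sc q).mapHomologyIso L).symm
  let cx : (L.mapHomologicalComplex (ComplexShape.up ℤ)).obj (pc I) ≅ I :=
    HomologicalComplex.Hom.isoOfComponents
      (fun i => (asIso (sheafificationAdjunction J AddCommGrpCat.{u}).counit).app (I.X i))
      (fun i j _ => ((sheafificationAdjunction J AddCommGrpCat.{u}).counit.naturality (I.d i j)).symm)
  exact ⟨L.mapIso (e₁ ≪≫ (asIso (hCls φ q)).symm) ≪≫ e₂ ≪≫
    (HomologicalComplex.homologyFunctor _ _ q).mapIso cx ≪≫ (isoOfQuasiIsoAt φ q).symm ≪≫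
    ((DerivedCategory.homologyFunctorFactors _ q).app K).symm ≪≫ (DerivedCategory.homologyFunctor _ q).mapIso e⟩

end Groth.L10.CechHDU
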