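import Groth.Agent.L10.CechHDU.Inj
import Groth.Agent.L10.CechNerves
import Groth.Prelude.Def_CohB1
import Groth.Prelude.Def_HTor

/-! The staircase filtration of hypercohomology attached to an open covering. -/

universe u

open CategoryTheory CategoryTheory.Limits Opposite TopologicalSpace

set_option autoImplicit false
set_option backward.defeqAttrib.useBackward true
set_option backward.isDefEq.respectTransparency false
set_option backward.isDefEq.respectTransparency.types false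
namespace Groth.L10.CechHDU

open Groth.L10.Cech

/-- A subquotient from a pair of homomorphisms. -/
theorem isSubquotient_of_homs {M N T : Type u} [AddCommGroup M] [AddCommGroup N] [AddCommGroup T]
    (α : M →+ T) (β : M →+ N) (hβ : Function.Surjective β) (h : α.ker ≤ β.ker) :
    HTor.IsSubquotient ℤ N T := by
  let a := α.toIntLinearMap
  let b := β.toIntLinearMap
  refine ⟨(LinearMap.ker b).map a, LinearMap.range a, LinearMap.map_le_range, ⟨?_⟩⟩
  let γ := (Submodule.comap (LinearMap.range a).subtype ((LinearMap.ker b).map a)).mkQ.comp a.rangeRestrict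
  have hγ : Function.Surjective γ := (Submodule.mkQ_surjective _).comp a.surjective_rangeRestrict
  have hk : LinearMap.ker b = LinearMap.ker γ := by
    ext m
    rw [LinearMap.mem_ker, LinearMap.mem_ker]
    refine ⟨fun hm => (Submodule.Quotient.mk_eq_zero _).2 ⟨m, LinearMap.mem_ker.2 hm, rfl⟩, fun hm => ?_⟩
    obtain ⟨k, hk, e⟩ := (Submodule.Quotient.mk_eq_zero _).1 hm
    have : β (m - k) = 0 := h (show α (m - k) = 0 by rw [map_sub, sub_eq_zero]; exact e.symm)
    rw [map_sub, sub_eq_zero] at this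
    exact this.trans (LinearMap.mem_ker.1 hk)
  exact (LinearMap.quotKerEquivOfSurjective b hβ).symm ≪≫ₗ Submodule.quotEquivOfEq _ _ hk ≪≫ₗ
    LinearMap.quotKerEquivOfSurjective γ hγ

section Homology

variable (K : CochainComplex AddCommGrpCat.{u} ℕ) (p : ℕ)

/-- The class of a cocycle. -/
noncomputable def hcls : (K.d p (p+1)).hom.ker →+ K.homology p :=
  (K.liftCycles (AddCommGrpCat.ofHom (K.d p (p+1)).hom.ker.subtype) (p+1) (by simp)
    (by ext x; exact x.2) ≫ K.homologyπ p).hom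

theorem hcls_eq_zero (x : (K.d p (p+1)).hom.ker) (h : hcls K p x = 0) :
    (p = 0 ∧ x.1 = 0) ∨ ∃ (r : ℕ) (w : K.X r), r + 1 = p ∧ K.d r p w = x.1 := by
  let z := (K.liftCycles (AddCommGrpCat.ofHom (K.d p (p+1)).hom.ker.subtype) (p+1) (by simp) (by ext x; exact x.2)) x
  have hz : K.iCycles p z = x.1 := congr($(K.liftCycles_i (AddCommGrpCat.ofHom (K.d p (p+1)).hom.ker.subtype)
    (p+1) (by simp) (by ext x; exact x.2)) x)
  change K.homologyπ p z = 0 at h
  cases p with
  | zero =>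
    have : IsIso (K.homologyπ 0) := K.isIso_homologyπ 0 0 (by simp) (by simp)
    have hp : Function.Injective (K.homologyπ 0) := (AddCommGrpCat.mono_iff_injective _).1 inferInstance
    exact Or.inl ⟨rfl, by rw [← hz, hp (h.trans (map_zero _).symm), map_zero]⟩
  | succ q =>
    have he := ShortComplex.exact_of_g_is_cokernel (ShortComplex.mk _ _ (K.toCycles_comp_homologyπ q (q + 1)))
      (K.homologyIsCokernel q (q + 1) (by simp))
    rw [ShortComplex.ab_exact_iff] at he
    obtain ⟨w, hw⟩ := he z h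
    exact Or.inr ⟨q, w, rfl, (congr($(K.toCycles_i q (q + 1)) w)).symm.trans ((congrArg _ hw).trans hz)⟩

end Homology

variable {X : TopCat.{u}} {ι : Type u} (U : ι → Opens X)
  (I : CochainComplex (CohTop.Ab X) ℤ)

/-- Čech cochains with values in a term of a complex. -/
noncomputable abbrev CC (p : ℕ) (q : ℤ) : AddCommGrpCat.{u} := (cx (𝟭 (Opens X)) U (I.X q).obj).X p

/-- The Čech differential. -/
noncomputable abbrev dC (p : ℕ) (q : ℤ) : CC U I p q →+ CC U I (p+1) q :=
  ((cx (𝟭 (Opens X)) U (I.X q).obj).d p (p+1)).hom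

/-- The differential of the complex. -/
noncomputable abbrev dI (p : ℕ) (q q' : ℤ) : CC U I p q →+ CC U I p q' :=
  ((cxMap (π := 𝟭 (Opens X)) (Y := U) (dd I q q')).f p).hom

/-- The augmentation. -/
noncomputable abbrev au (q : ℤ) : (I.X q).obj.obj (op (⊤ : Opens X)) →+ CC U I 0 q :=
  aug (𝟭 (Opens X)) U (fun i => (homOfLE le_top : U i ⟶ (⊤ : Opens X))) (I.X q).obj

theorem nerve : IsNerve (𝟭 (Opens X)) U (fun i => (homOfLE le_top : U i ⟶ (⊤ : Opens X))) where
  comp _ _ _ := Subsingleton.elim _ _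
  lift {n} a {V} g _ := ⟨Pi.lift g, fun k => Subsingleton.elim _ _⟩
  hom_ext {n} a {V} h h' _ := Subsingleton.elim _ _

theorem dC_dC (p : ℕ) (q : ℤ) (x : CC U I p q) : dC U I (p+1) q (dC U I p q x) = 0 :=
  congr($((cx (𝟭 (Opens X)) U (I.X q).obj).d_comp_d p (p+1) (p+1+1)) x)

theorem dC_dI (p : ℕ) (q q' : ℤ) (x : CC U I p q) :
    dC U I p q' (dI U I p q q' x) = dI U I (p+1) q q' (dC U I p q x) := comm_apply _ _ _ _

theorem dd_dd_apply (V : Opens X) (q q' q'' : ℤ) (s : (I.X q).obj.obj (op V)) :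
    (dd I q' q'').app (op V) ((dd I q q').app (op V) s) = 0 :=
  congr($(congr_app (congrArg (fun φ : I.X q ⟶ I.X q'' => φ.hom) (I.d_comp_d q q' q'')) (op V)) s)

theorem dI_dI (p : ℕ) (q q' q'' : ℤ) (x : CC U I p q) : dI U I p q' q'' (dI U I p q q' x) = 0 :=
  co_ext fun a => by rw [co_cxMap, co_cxMap, map_zero]; exact dd_dd_apply I _ q q' q'' _

/-- `z` is joined to the global class `a` by a staircase. -/
def Stair (n : ℤ) : ∀ (p : ℕ) (q : ℤ), CC U I p q → Z I (⊤ : Opens X) n → Prop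
  | 0, q, z, a => ∃ h : q = n, (h ▸ z : CC U I 0 n) = au U I n a.1
  | p+1, q, z, a => ∃ y, dC U I p q y = z ∧ Stair n p (q+1) (dI U I p q (q+1) y) a

variable {n : ℤ}

theorem stair_zero : ∀ (p : ℕ) (q : ℤ), q + p = n → Stair U I n p q 0 0
  | 0, q, h => by
    obtain rfl : q = n := by omega
    exact ⟨rfl, (map_zero _).symm⟩
  | p+1, q, h => ⟨0, map_zero _, by rw [map_zero]; exact stair_zero p (q+1) (by omega)⟩

theorem stair_add : ∀ (p : ℕ) (q : ℤ) (z z' : CC U I p q) (a a' : Z I (⊤ : Opens X) n),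
    Stair U I n p q z a → Stair U I n p q z' a' → Stair U I n p q (z + z') (a + a')
  | 0, q, z, z', a, a', ⟨h, e⟩, ⟨_, e'⟩ => by
    subst h
    exact ⟨rfl, by rw [AddSubgroup.coe_add, map_add]; exact congrArg₂ _ e e'⟩
  | p+1, q, z, z', a, a', ⟨y, e, h⟩, ⟨y', e', h'⟩ =>
    ⟨y + y', by rw [map_add, e, e'], by rw [map_add]; exact stair_add p (q+1) _ _ a a' h h'⟩

theorem stair_neg : ∀ (p : ℕ) (q : ℤ) (z : CC U I p q) (a : Z I (⊤ : Opens X) n),
    Stair U I n p q z a → Stair U I n p q (-z) (-a)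
  | 0, q, z, a, ⟨h, e⟩ => by
    subst h
    exact ⟨rfl, by rw [AddSubgroup.coe_neg, map_neg]; exact congrArg _ e⟩
  | p+1, q, z, a, ⟨y, e, h⟩ => ⟨-y, by rw [map_neg, e], by rw [map_neg]; exact stair_neg p (q+1) _ a h⟩

theorem stair_closed : ∀ (p : ℕ) (q : ℤ) (z : CC U I p q) (a : Z I (⊤ : Opens X) n),
    Stair U I n p q z a → dC U I p q z = 0 ∧ dI U I p q (q+1) z = 0
  | 0, q, z, a, ⟨h, e⟩ => by
    subst h
    obtain rfl : z = au U I q a.1 := e
    refine ⟨d_aug (nerve U) _ _, (cxMap_aug _ _).trans ?_⟩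
    rw [(mem_Z.1 a.2), map_zero]
  | p+1, q, z, a, ⟨y, e, h⟩ => by
    subst e
    exact ⟨dC_dC U I p q y, (dC_dI U I p q (q+1) y).symm.trans (stair_closed p (q+1) _ a h).1⟩

theorem stair_push (p : ℕ) (q q' : ℤ) (hq : q' + 1 = q) (v : CC U I p q') (a : Z I (⊤ : Opens X) n)
    (h : Stair U I n p q (dI U I p q' q v) a) : Stair U I n (p+1) q' (dC U I p q' v) a := by
  subst hq
  exact ⟨v, rfl, h⟩

theorem stair_sub_boundary (p : ℕ) (q : ℤ) (z : CC U I (p+1) q) (a : Z I (⊤ : Opens X) n)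
    (h : Stair U I n (p+1) q z a) (w : CC U I p q) (hw : dI U I p q (q+1) w = 0) :
    Stair U I n (p+1) q (z - dC U I p q w) a := by
  obtain ⟨y, e, h⟩ := h
  exact ⟨y - w, by rw [map_sub, e], by rw [map_sub, hw, sub_zero]; exact h⟩

section Classes

variable [HasDerivedCategory.{u} (CohTop.Ab X)] {K : CochainComplex (CohTop.Ab X) ℤ} {I}
  (φ : K ⟶ I) [QuasiIso φ]

/-- Cochains closed under the differential of the complex. -/
noncomputable def ZC (I : CochainComplex (CohTop.Ab X) ℤ) (p : ℕ) (q : ℤ) : AddSubgroup (CC U I p q) :=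
  (dI U I p q (q+1)).ker

theorem co_mem {p : ℕ} {q : ℤ} (z : ZC U I p q) (a : Fin (p+1) → ι) :
    co a z.1 ∈ Z I (tup U a) q := by
  rw [mem_Z]
  refine (co_cxMap (dd I q (q+1)) a z.1).symm.trans ?_
  rw [show (cxMap (π := 𝟭 (Opens X)) (Y := U) (dd I q (q+1))).f p z.1 = 0 from z.2, map_zero]

/-- The cochain of classes. -/
noncomputable def clsC (p : ℕ) (q : ℤ) :
    ZC U I p q →+ (cx (𝟭 (Opens X)) U (CohCx.HDUPresheaf (DerivedCategory.Q.obj K) q)).X p :=
  AddMonoidHom.mk' (fun z => mk fun a => cls φ (tup U a) q ⟨co a z.1, co_mem U z a⟩) fun z z' =>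
    co_ext fun a => by
      rw [map_add, co_mk, co_mk, co_mk]
      refine Eq.trans ?_ (map_add (cls φ (tup U a) q) _ _)
      congr 1
      exact Subtype.ext (map_add (co a) z.1 z'.1)

theorem co_clsC (p : ℕ) (q : ℤ) (z : ZC U I p q) (a : Fin (p+1) → ι) :
    co a (clsC U φ p q z) = cls φ (tup U a) q ⟨co a z.1, co_mem U z a⟩ := co_mk _ _

theorem d_clsC (p : ℕ) (q : ℤ) (z : ZC U I p q) (w : ZC U I (p+1) q) (h : dC U I p q z.1 = w.1) :
    (cx (𝟭 (Opens X)) U (CohCx.HDUPresheaf (DerivedCategory.Q.obj K) q)).d p (p+1) (clsC U φ p q z) =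
      clsC U φ (p+1) q w := co_ext fun a => by
  have hm : ∀ j : Fin (p+2), (I.X q).obj.map ((𝟭 (Opens X)).map (face U j a)).op (co (a ∘ j.succAbove) z.1) ∈
      Z I (tup U a) q := fun j => by
    rw [mem_Z]
    refine (congr($((dd I q (q+1)).naturality _) _)).trans ?_
    exact (congrArg ((I.X (q+1)).obj.map ((𝟭 (Opens X)).map (face U j a)).op)
      (co_mem U z (a ∘ j.succAbove))).trans (map_zero ((I.X (q+1)).obj.map ((𝟭 (Opens X)).map (face U j a)).op).hom)
  rw [co_d, co_clsC]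
  simp only [co_clsC]
  have e : ∀ j : Fin (p+2), (CohCx.HDUPresheaf (DerivedCategory.Q.obj K) q).map ((𝟭 (Opens X)).map (face U j a)).op
      (cls φ (tup U (a ∘ j.succAbove)) q ⟨co (a ∘ j.succAbove) z.1, co_mem U z _⟩) =
      cls φ (tup U a) q ⟨_, hm j⟩ := fun j => res_cls φ ((𝟭 (Opens X)).map (face U j a)) q _ ⟨_, hm j⟩ rfl
  simp only [e]
  rw [← Finset.sum_congr rfl fun j _ => map_zsmul (cls φ (tup U a) q) _ _, ← map_sum]
  congr 1
  refine Subtype.ext ?_
  rw [AddSubgroup.val_finsetSum]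
  simp only [AddSubgroupClass.coe_zsmul]
  exact (co_d a z.1).symm.trans (congrArg _ h)

variable [I.IsKInjective]

theorem clsC_eq_zero_iff (p : ℕ) (q q' : ℤ) (hq : q' + 1 = q) (z : ZC U I p q) :
    clsC U φ p q z = 0 ↔ ∃ v, dI U I p q' q v = z.1 := by
  refine ⟨fun h => ?_, fun ⟨v, hv⟩ => co_ext fun a => ?_⟩
  · have h' : ∀ a, ∃ t, (dd I q' q).app (op (tup U a)) t = co a z.1 := fun a =>
      (cls_eq_zero_iff φ (tup U a) q q' hq _).1 (by rw [← co_clsC, h, map_zero])
    choose t ht using h'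
    exact ⟨mk t, co_ext fun a => by rw [co_cxMap, co_mk]; exact ht a⟩
  · rw [co_clsC, map_zero]
    exact (cls_eq_zero_iff φ (tup U a) q q' hq _).2 ⟨co a v, (co_cxMap _ a v).symm.trans (congrArg (co a) hv)⟩

theorem clsC_surjective (p : ℕ) (q : ℤ) : Function.Surjective (clsC U φ p q) := fun x => by
  choose s hs using fun a : Fin (p+1) → ι => cls_surjective φ (tup U a) q (co a x)
  let z : ZC U I p q := ⟨mk fun a => (s a).1, AddMonoidHom.mem_ker.2 (co_ext fun a => by
    rw [co_cxMap, co_mk, map_zero]; exact (s a).2)⟩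
  refine ⟨z, co_ext fun a => ?_⟩
  rw [co_clsC, ← hs a]
  congr 1
  exact Subtype.ext (co_mk _ _)

end Classes

end Groth.L10.CechHDU
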